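import Mathlib

/-!
Every even permutation of at least five points is a product of two permutations of one cycle
type, which is even and has at least two transpositions among its cycles.
-/

set_option autoImplicit false

namespace CfsgLib.AltCover

open Equiv Equiv.Perm

section Transport

variable {α β : Type*} [Fintype α] [DecidableEq α] [Fintype β] [DecidableEq β]

lemma cycleType_permCongr (e : α ≃ β) (σ : Perm α) : (e.permCongr σ).cycleType = σ.cycleType := by
  have h : e.permCongr σ = σ.extendDomain (p := fun _ => True)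
      (e.trans (Equiv.subtypeUnivEquiv fun _ => trivial).symm) := by
    ext x
    obtain ⟨y, rfl⟩ := e.surjective x
    rw [Equiv.permCongr_apply, e.symm_apply_apply]
    exact (Equiv.Perm.extendDomain_apply_image σ
      (e.trans (Equiv.subtypeUnivEquiv (p := fun _ => True) fun _ => trivial).symm) y).symm
  rw [h, cycleType_extendDomain]

lemma cycleType_sumCongr_left (σ : Perm α) :
    (Perm.sumCongr σ (1 : Perm β)).cycleType = σ.cycleType := by
  classical
  let f : α ≃ {x : α ⊕ β // x ∈ Set.range (Sum.inl : α → α ⊕ β)} :=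
    Equiv.ofInjective _ Sum.inl_injective
  have h : Perm.sumCongr σ (1 : Perm β) = σ.extendDomain f := by
    apply Equiv.ext
    rintro (x | y)
    · have := Equiv.Perm.extendDomain_apply_image σ f x
      simpa [f] using this.symm
    · rw [Equiv.Perm.extendDomain_apply_not_subtype _ _ (by simp)]
      rfl
  rw [h, cycleType_extendDomain]

lemma cycleType_sumCongr (σ : Perm α) (τ : Perm β) :
    (Perm.sumCongr σ τ).cycleType = σ.cycleType + τ.cycleType := by
  have h : Perm.sumCongr σ τ = Perm.sumCongr σ 1 * Perm.sumCongr 1 τ := by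
    rw [Perm.sumCongr_mul, mul_one, one_mul]
  have h2 : (Perm.sumCongr (1 : Perm α) τ).cycleType = τ.cycleType := by
    have e : Perm.sumCongr (1 : Perm α) τ
        = (Equiv.sumComm β α).permCongr (Perm.sumCongr τ 1) := by
      apply Equiv.ext
      rintro (x | y) <;> rfl
    rw [e, cycleType_permCongr, cycleType_sumCongr_left]
  rw [h, Perm.Disjoint.cycleType_mul, cycleType_sumCongr_left, h2]
  rintro (x | y)
  · exact Or.inr rfl
  · exact Or.inl rfl

lemma permCongr_mul_permCongr (e : α ≃ β) (σ τ : Perm α) :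
    e.permCongr σ * e.permCongr τ = e.permCongr (σ * τ) := by
  ext x
  simp [Equiv.permCongr_apply]

end Transport

/-- Some permutation of cycle type `c` of `N` points is the product of permutations of types
`S` and `T`. -/
def Dec (N : ℕ) (c S T : Multiset ℕ) : Prop :=
  ∃ ξ η : Perm (Fin N), (ξ * η).cycleType = c ∧ ξ.cycleType = S ∧ η.cycleType = T

/-- `l` copies of a transposition. -/
abbrev R (l : ℕ) : Multiset ℕ := Multiset.replicate l 2

lemma R_succ (i : ℕ) : R (i + 1) = R i + {2} := by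
  rw [R, Multiset.replicate_add, Multiset.replicate_one]

lemma R_succ' (i : ℕ) : ({2} : Multiset ℕ) + R i = R (i + 1) := by
  rw [R_succ, add_comm]

lemma dec_one (N : ℕ) : Dec N 0 0 0 := ⟨1, 1, by simp, by simp, by simp⟩

lemma Dec.swap {N : ℕ} {c S T : Multiset ℕ} (h : Dec N c S T) : Dec N c T S := by
  obtain ⟨ξ, η, hc, hS, hT⟩ := h
  refine ⟨η, ξ, ?_, hT, hS⟩
  rw [← hc, show η * ξ = ξ⁻¹ * (ξ * η) * ξ⁻¹⁻¹ by group, cycleType_conj]

lemma Dec.add {N M : ℕ} {c c' S S' T T' : Multiset ℕ} (h : Dec N c S T) (h' : Dec M c' S' T') :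
    Dec (N + M) (c + c') (S + S') (T + T') := by
  obtain ⟨ξ, η, hc, hS, hT⟩ := h
  obtain ⟨ξ', η', hc', hS', hT'⟩ := h'
  refine ⟨finSumFinEquiv.permCongr (Perm.sumCongr ξ ξ'),
    finSumFinEquiv.permCongr (Perm.sumCongr η η'), ?_, ?_, ?_⟩
  · rw [permCongr_mul_permCongr, Perm.sumCongr_mul, cycleType_permCongr, cycleType_sumCongr, hc, hc']
  · rw [cycleType_permCongr, cycleType_sumCongr, hS, hS']
  · rw [cycleType_permCongr, cycleType_sumCongr, hT, hT']

lemma Dec.cast {N M : ℕ} {c S T c' S' T' : Multiset ℕ} (h : Dec N c S T) (hN : N = M)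
    (hc : c = c') (hS : S = S') (hT : T = T') : Dec M c' S' T' := by
  subst hN hc hS hT; exact h

/-- A decomposition of one long cycle whose second factor has a fixed point. -/
def Ch (l : ℕ) (S T : Multiset ℕ) : Prop :=
  ∃ (ξ η : Perm (Fin l)) (a : Fin l), (∀ x, Perm.SameCycle (ξ * η) a x) ∧ η a = a ∧
    ξ.cycleType = S ∧ η.cycleType = T

lemma cycleType_swap_two {α : Type*} [Fintype α] [DecidableEq α] {a b : α} (h : a ≠ b) :
    (Equiv.swap a b).cycleType = {2} := by
  rw [(isCycle_swap h).cycleType, card_support_swap h]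

lemma Ch.step {l : ℕ} {S T : Multiset ℕ} (h : Ch l S T) : Ch (l + 2) (S + {2}) (T + {2}) := by
  obtain ⟨ξ, η, a, hc, ha, hS, hT⟩ := h
  set ξ' : Perm (Fin l ⊕ Fin 2) := Perm.sumCongr ξ (Equiv.swap 0 1) with hξ'
  set η' : Perm (Fin l ⊕ Fin 2) :=
    Perm.sumCongr η (1 : Perm (Fin 2)) * Equiv.swap (Sum.inl a) (Sum.inr 0) with hη'
  have hP1 : (ξ' * η') (Sum.inr 1) = Sum.inr 0 := by
    simp [hξ', hη', Equiv.swap_apply_of_ne_of_ne]
  have hP0 : (ξ' * η') (Sum.inr 0) = Sum.inl ((ξ * η) a) := by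
    simp [hξ', hη']
  have hPa : (ξ' * η') (Sum.inl a) = Sum.inr 1 := by
    simp [hξ', hη']
  have hPx : ∀ x, x ≠ a → (ξ' * η') (Sum.inl x) = Sum.inl ((ξ * η) x) := fun x hx => by
    simp [hξ', hη', Equiv.swap_apply_of_ne_of_ne, hx]
  have hgoto : ∀ {u v : Fin l ⊕ Fin 2}, Perm.SameCycle (ξ' * η') (Sum.inr 1) u →
      (ξ' * η') u = v → Perm.SameCycle (ξ' * η') (Sum.inr 1) v := by
    rintro u v hu rfl
    exact hu.apply_right
  have h0 := hgoto (Perm.SameCycle.refl _ _) hP1
  have hca := hgoto h0 hP0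
  have hiter : ∀ i : ℕ, Perm.SameCycle (ξ' * η') (Sum.inr 1)
      (Sum.inl (((ξ * η) ^ (i + 1)) a)) := by
    intro i
    induction i with
    | zero => simpa using hca
    | succ i ih =>
      rw [pow_succ' (ξ * η) (i + 1)]
      by_cases hx : ((ξ * η) ^ (i + 1)) a = a
      · show Perm.SameCycle _ _ (Sum.inl ((ξ * η) (((ξ * η) ^ (i + 1)) a)))
        rw [hx]; exact hca
      · exact hgoto ih (hPx _ hx)
  have hall : ∀ u, Perm.SameCycle (ξ' * η') (Sum.inr 1) u := by
    rintro (x | j)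
    · obtain ⟨i, hi, -, rfl⟩ := (hc x).exists_pow_eq (ξ * η)
      obtain ⟨i, rfl⟩ := Nat.exists_eq_add_of_lt hi
      simpa using hiter i
    · fin_cases j
      · exact h0
      · exact Perm.SameCycle.refl _ _
  refine ⟨finSumFinEquiv.permCongr ξ', finSumFinEquiv.permCongr η',
    finSumFinEquiv (Sum.inr 1), ?_, ?_, ?_, ?_⟩
  · intro x
    obtain ⟨u, rfl⟩ := finSumFinEquiv.surjective x
    obtain ⟨i, hi⟩ := hall u
    refine ⟨i, ?_⟩
    have hm : finSumFinEquiv.permCongr ξ' * finSumFinEquiv.permCongr η'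
        = MonoidHom.mk' (fun σ => (finSumFinEquiv (m := l) (n := 2)).permCongr σ)
            (fun σ τ => (permCongr_mul_permCongr _ σ τ).symm) (ξ' * η') :=
      permCongr_mul_permCongr _ _ _
    rw [hm, ← map_zpow]
    show finSumFinEquiv.permCongr ((ξ' * η') ^ i) _ = _
    rw [Equiv.permCongr_apply, Equiv.symm_apply_apply, hi]
  · rw [Equiv.permCongr_apply, Equiv.symm_apply_apply]
    simp [hη', Equiv.swap_apply_of_ne_of_ne]
  · rw [cycleType_permCongr, hξ', cycleType_sumCongr, hS, cycleType_swap_two (by decide)]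
  · rw [cycleType_permCongr, hη', Perm.Disjoint.cycleType_mul, cycleType_sumCongr,
      cycleType_swap_two (by simp), hT]
    · simp
    · rintro (x | j)
      · by_cases hx : x = a
        · subst hx; left; simp [ha]
        · right; exact Equiv.swap_apply_of_ne_of_ne (by simp [hx]) (by simp)
      · left; simp

lemma Ch.dec {l : ℕ} {S T : Multiset ℕ} (h : Ch l S T) (hl : 2 ≤ l) : Dec l {l} S T := by
  obtain ⟨ξ, η, a, hc, -, hS, hT⟩ := h
  refine ⟨ξ, η, ?_, hS, hT⟩
  have hmove : ∀ x, (ξ * η) x ≠ x := by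
    intro x hx
    have hall : ∀ y, y = x := fun y => by
      obtain ⟨i, hi⟩ := ((hc x).symm.trans (hc y))
      rw [← hi]
      exact Perm.zpow_apply_eq_self_of_apply_eq_self hx i
    have : Fintype.card (Fin l) ≤ 1 :=
      Fintype.card_le_one_iff.2 fun u v => (hall u).trans (hall v).symm
    simp at this
    omega
  have hcyc : (ξ * η).IsCycle := ⟨a, hmove a, fun y _ => hc y⟩
  rw [hcyc.cycleType]
  congr 1
  rw [show (ξ * η).support = Finset.univ by ext x; simpa using hmove x]
  simp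

lemma ch_iter {l : ℕ} {S T : Multiset ℕ} (h : Ch l S T) :
    ∀ i, Ch (l + 2 * i) (S + R i) (T + R i)
  | 0 => by simpa using h
  | i + 1 => by
    have := (ch_iter h i).step
    rw [R_succ, ← add_assoc, ← add_assoc]
    exact this

lemma dec_odd (j : ℕ) : Dec (2 * j + 3) {2 * j + 3} (R (j + 1)) (R (j + 1)) := by
  have h1 : Ch 1 0 0 := ⟨1, 1, 0, fun x => by rw [Subsingleton.elim x 0], by simp, by simp, by simp⟩
  have h := (ch_iter h1 (j + 1)).dec (by omega)
  rw [show 1 + 2 * (j + 1) = 2 * j + 3 by ring] at h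
  simpa using h

lemma dec_even (j : ℕ) : Dec (2 * j + 2) {2 * j + 2} (R (j + 1)) (R j) := by
  have h2 : Ch 2 {2} 0 := ⟨Equiv.swap 0 1, 1, 0, by decide +kernel, by simp,
    cycleType_swap_two (by decide), by simp⟩
  have h := (ch_iter h2 j).dec (by omega)
  rw [show 2 + 2 * j = 2 * j + 2 by ring, zero_add,
    R_succ'] at h
  exact h

lemma cycleType_formPerm' {α : Type*} [Fintype α] [DecidableEq α] (L : List α) (hl : L.Nodup)
    (hn : 2 ≤ L.length) : L.formPerm.cycleType = {L.length} := by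
  rw [(List.isCycle_formPerm hl hn).cycleType, List.support_formPerm_of_nodup L hl
    (by rintro x rfl; simp at hn), List.card_toFinset, hl.dedup]

lemma dec_odd_flip (i : ℕ) : Dec (2 * i + 5) {2 * i + 5} ({4} + R i) ({4} + R i) := by
  have h5 : Ch 5 {4} {4} := ⟨([1, 2, 4, 3] : List (Fin 5)).formPerm,
    ([0, 3, 2, 4] : List (Fin 5)).formPerm, 1, by decide +kernel, by decide +kernel,
    cycleType_formPerm' _ (by decide) (by simp), cycleType_formPerm' _ (by decide) (by simp)⟩
  have h := (ch_iter h5 i).dec (by omega)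
  rwa [show 5 + 2 * i = 2 * i + 5 by ring] at h

lemma dec_even_flip (i : ℕ) : Dec (2 * i + 6) {2 * i + 6} ({4} + R (i + 1)) ({4} + R i) := by
  have h6 : Ch 6 ({4} + {2}) {4} := ⟨([2, 3, 5, 4] : List (Fin 6)).formPerm * Equiv.swap 0 1,
    ([1, 4, 3, 5] : List (Fin 6)).formPerm, 0, by decide +kernel, by decide +kernel,
    by
      rw [Perm.Disjoint.cycleType_mul, cycleType_formPerm' _ (by decide) (by simp),
        cycleType_swap_two (by decide)]
      · rfl
      · unfold Perm.Disjoint; decide +kernel,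
    cycleType_formPerm' _ (by decide) (by simp)⟩
  have h := (ch_iter h6 i).dec (by omega)
  rw [show 6 + 2 * i = 2 * i + 6 by ring, add_assoc, R_succ'] at h
  exact h

lemma type32 {n : ℕ} (x y z a b c d : Fin n) (h : [x, y, z, a, b, c, d].Nodup) :
    (([x, y, z] : List (Fin n)).formPerm * (Equiv.swap a b * Equiv.swap c d)).cycleType
      = {3} + R 2 := by
  simp only [List.nodup_cons, List.mem_cons, List.not_mem_nil, or_false, not_or,
    List.nodup_nil, and_true, not_false_iff] at h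
  obtain ⟨⟨h1, h2, h3, h4, h5, h6⟩, ⟨h7, h8, h9, h10, h11⟩, ⟨h12, h13, h14, h15⟩,
    ⟨h16, h17, h18⟩, ⟨h19, h20⟩, h21⟩ := h
  have d1 : Perm.Disjoint (Equiv.swap a b) (Equiv.swap c d) := fun w => by
    by_cases hw : w = c ∨ w = d
    · left; rcases hw with rfl | rfl <;> apply Equiv.swap_apply_of_ne_of_ne <;>
        first | exact Ne.symm ‹_› | assumption
    · push Not at hw; right; exact Equiv.swap_apply_of_ne_of_ne hw.1 hw.2
  rw [Perm.Disjoint.cycleType_mul, d1.cycleType_mul, cycleType_formPerm' _ _ (by simp),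
    cycleType_swap_two h16, cycleType_swap_two h21]
  · rfl
  · simp [h1, h2, h7]
  · intro w
    by_cases hw : w = a ∨ w = b ∨ w = c ∨ w = d
    · left
      refine List.formPerm_apply_of_notMem ?_
      rcases hw with rfl | rfl | rfl | rfl <;> simp [Ne.symm, *]
    · push Not at hw
      right
      simp [Equiv.swap_apply_of_ne_of_ne, hw]

lemma dec_seven : Dec 7 {7} ({3} + R 2) ({3} + R 2) := by
  refine ⟨([1, 5, 4] : List (Fin 7)).formPerm * (Equiv.swap 0 2 * Equiv.swap 3 6),
    ([0, 4, 1] : List (Fin 7)).formPerm * (Equiv.swap 2 6 * Equiv.swap 3 5), ?_,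
    type32 _ _ _ _ _ _ _ (by decide), type32 _ _ _ _ _ _ _ (by decide)⟩
  rw [show ([1, 5, 4] : List (Fin 7)).formPerm * (Equiv.swap 0 2 * Equiv.swap 3 6) *
      (([0, 4, 1] : List (Fin 7)).formPerm * (Equiv.swap 2 6 * Equiv.swap 3 5))
    = ([0, 1, 2, 3, 4, 5, 6] : List (Fin 7)).formPerm by decide +kernel,
    cycleType_formPerm' _ (by decide) (by simp)]
  rfl

lemma dec_six_two : Dec 8 {6, 2} ({3} + R 2) ({3} + R 2) := by
  refine ⟨([1, 2, 7] : List (Fin 8)).formPerm * (Equiv.swap 3 6 * Equiv.swap 4 5),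
    ([0, 7, 1] : List (Fin 8)).formPerm * (Equiv.swap 2 6 * Equiv.swap 3 5), ?_,
    type32 _ _ _ _ _ _ _ (by decide), type32 _ _ _ _ _ _ _ (by decide)⟩
  rw [show ([1, 2, 7] : List (Fin 8)).formPerm * (Equiv.swap 3 6 * Equiv.swap 4 5) *
      (([0, 7, 1] : List (Fin 8)).formPerm * (Equiv.swap 2 6 * Equiv.swap 3 5))
    = ([2, 3, 4, 5, 6, 7] : List (Fin 8)).formPerm * Equiv.swap 0 1 by decide +kernel,
    Perm.Disjoint.cycleType_mul, cycleType_formPerm' _ (by decide) (by simp),
    cycleType_swap_two (by decide)]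
  · rfl
  · unfold Perm.Disjoint; decide +kernel

lemma dec_three : Dec 3 {3} {3} {3} := by
  refine ⟨([0, 2, 1] : List (Fin 3)).formPerm, ([0, 2, 1] : List (Fin 3)).formPerm, ?_,
    cycleType_formPerm' _ (by decide) (by simp), cycleType_formPerm' _ (by decide) (by simp)⟩
  rw [show ([0, 2, 1] : List (Fin 3)).formPerm * ([0, 2, 1] : List (Fin 3)).formPerm
    = ([0, 1, 2] : List (Fin 3)).formPerm by decide +kernel,
    cycleType_formPerm' _ (by decide) (by simp)]
  rfl

lemma type22 {n : ℕ} (a b c d : Fin n) (h : a ≠ b ∧ c ≠ d ∧ a ≠ c ∧ a ≠ d ∧ b ≠ c ∧ b ≠ d) :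
    (Equiv.swap a b * Equiv.swap c d).cycleType = R 2 := by
  obtain ⟨h1, h2, h3, h4, h5, h6⟩ := h
  rw [Perm.Disjoint.cycleType_mul, cycleType_swap_two h1, cycleType_swap_two h2]
  · rfl
  · intro w
    by_cases hw : w = c ∨ w = d
    · left; rcases hw with rfl | rfl <;> apply Equiv.swap_apply_of_ne_of_ne <;>
        first | exact Ne.symm ‹_› | assumption
    · push Not at hw; right; exact Equiv.swap_apply_of_ne_of_ne hw.1 hw.2

lemma dec_two_two : Dec 4 (R 2) (R 2) (R 2) := by
  refine ⟨Equiv.swap 0 2 * Equiv.swap 1 3, Equiv.swap 0 3 * Equiv.swap 1 2, ?_,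
    type22 _ _ _ _ (by decide), type22 _ _ _ _ (by decide)⟩
  rw [show Equiv.swap (0 : Fin 4) 2 * Equiv.swap 1 3 * (Equiv.swap 0 3 * Equiv.swap 1 2)
    = Equiv.swap 0 1 * Equiv.swap 2 3 by decide +kernel, type22 _ _ _ _ (by decide)]

lemma dec_ident : Dec 4 0 (R 2) (R 2) := by
  refine ⟨Equiv.swap 0 2 * Equiv.swap 1 3, Equiv.swap 0 2 * Equiv.swap 1 3, ?_,
    type22 _ _ _ _ (by decide), type22 _ _ _ _ (by decide)⟩
  rw [show Equiv.swap (0 : Fin 4) 2 * Equiv.swap 1 3 * (Equiv.swap 0 2 * Equiv.swap 1 3) = 1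
    by decide +kernel, cycleType_one]

lemma dec_transposition : Dec 2 0 (R 1) (R 1) := by
  refine ⟨Equiv.swap 0 1, Equiv.swap 0 1, by simp, ?_, ?_⟩ <;>
    exact cycleType_swap_two (by decide)

lemma dec_four_four : Dec 8 {4, 4} (R 4) (R 4) := by
  refine ⟨(Equiv.swap 0 4 * Equiv.swap 1 7) * (Equiv.swap 2 6 * Equiv.swap 3 5),
    (Equiv.swap 0 7 * Equiv.swap 1 6) * (Equiv.swap 2 5 * Equiv.swap 3 4), ?_, ?_, ?_⟩
  · rw [show (Equiv.swap (0 : Fin 8) 4 * Equiv.swap 1 7) * (Equiv.swap 2 6 * Equiv.swap 3 5) *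
      ((Equiv.swap 0 7 * Equiv.swap 1 6) * (Equiv.swap 2 5 * Equiv.swap 3 4))
      = ([0, 1, 2, 3] : List (Fin 8)).formPerm * ([4, 5, 6, 7] : List (Fin 8)).formPerm
      by decide +kernel,
      Perm.Disjoint.cycleType_mul, cycleType_formPerm' _ (by decide) (by simp),
      cycleType_formPerm' _ (by decide) (by simp)]
    · rfl
    · unfold Perm.Disjoint; decide +kernel
  · rw [Perm.Disjoint.cycleType_mul, type22 _ _ _ _ (by decide), type22 _ _ _ _ (by decide)]
    · simp [R, ← Multiset.replicate_add]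
    · unfold Perm.Disjoint; decide +kernel
  · rw [Perm.Disjoint.cycleType_mul, type22 _ _ _ _ (by decide), type22 _ _ _ _ (by decide)]
    · simp [R, ← Multiset.replicate_add]
    · unfold Perm.Disjoint; decide +kernel

/-- The standard decomposition into involutions. -/
lemma dec_std : ∀ c : Multiset ℕ, (∀ l ∈ c, 2 ≤ l) →
    ∃ s t, Dec c.sum c (R s) (R t) ∧ s + t + Multiset.card c = c.sum ∧ t ≤ s ∧ s ≤ t + 1 := by
  intro c
  induction c using Multiset.induction_on with
  | empty => exact fun _ => ⟨0, 0, by simpa using dec_one 0, by simp, le_rfl, by omega⟩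
  | cons l c ih =>
    intro hc
    obtain ⟨s, t, h, hst, hts, hst'⟩ := ih fun m hm => hc m (Multiset.mem_cons_of_mem hm)
    have hl := hc l (Multiset.mem_cons_self _ _)
    have key : ∀ u v, Dec l {l} (R u) (R v) →
        Dec (l ::ₘ c).sum (l ::ₘ c) (R (u + s)) (R (v + t)) := fun u v hb =>
      (hb.add h).cast (by simp) (by simp) (Multiset.replicate_add u s 2).symm
        (Multiset.replicate_add v t 2).symm
    rcases Nat.even_or_odd' l with ⟨j, rfl | rfl⟩
    · obtain ⟨j, rfl⟩ : ∃ i, j = i + 1 := ⟨j - 1, by omega⟩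
      have hb : Dec (2 * (j + 1)) {2 * (j + 1)} (R (j + 1)) (R j) := by
        simpa [mul_add] using dec_even j
      simp only [Multiset.sum_cons, Multiset.card_cons]
      rcases Nat.lt_or_ge t s with hlt | hge
      · exact ⟨j + s, j + 1 + t, key _ _ hb.swap |>.cast (by simp) rfl rfl rfl, by omega,
          by omega, by omega⟩
      · exact ⟨j + 1 + s, j + t, key _ _ hb |>.cast (by simp) rfl rfl rfl, by omega,
          by omega, by omega⟩
    · obtain ⟨j, rfl⟩ : ∃ i, j = i + 1 := ⟨j - 1, by omega⟩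
      have hb : Dec (2 * (j + 1) + 1) {2 * (j + 1) + 1} (R (j + 1)) (R (j + 1)) := by
        simpa [mul_add, add_assoc] using dec_odd j
      simp only [Multiset.sum_cons, Multiset.card_cons]
      exact ⟨j + 1 + s, j + 1 + t, key _ _ hb |>.cast (by simp) rfl rfl rfl, by omega,
        by omega, by omega⟩

end CfsgLib.AltCover
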