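import Cfsg.Agent.Lib.AltCover.Decomp
import Cfsg.Agent.Lib.Presentations.AltCarmichael

/-!
Commutators in perfect double covers of alternating groups.
-/

set_option autoImplicit false

namespace CfsgLib.AltCover

open Equiv Equiv.Perm
open scoped commutatorElement

variable {n : ℕ}

lemma exists_swap_of_count {ξ : Perm (Fin n)} (h : 1 ≤ ξ.cycleType.count 2) :
    ∃ a b, a ≠ b ∧ ξ a = b ∧ ξ b = a := by
  have hm : 2 ∈ ξ.cycleType := Multiset.count_pos.1 h
  rw [cycleType_def, Multiset.mem_map] at hm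
  obtain ⟨f, hf, hf2⟩ := hm
  obtain ⟨a, b, hab, rfl⟩ := card_support_eq_two.1 (by simpa using hf2)
  obtain ⟨-, hfix⟩ := mem_cycleFactorsFinset_iff.1 (Finset.mem_def.2 hf)
  refine ⟨a, b, hab, ?_, ?_⟩
  · rw [← hfix a (by simp [support_swap hab]), swap_apply_left]
  · rw [← hfix b (by simp [support_swap hab]), swap_apply_right]

lemma exists_two_swaps {ξ : Perm (Fin n)} (h : 2 ≤ ξ.cycleType.count 2) :
    ∃ a b c d, a ≠ b ∧ c ≠ d ∧ a ≠ c ∧ a ≠ d ∧ b ≠ c ∧ b ≠ d ∧
      ξ a = b ∧ ξ b = a ∧ ξ c = d ∧ ξ d = c := by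
  classical
  rw [cycleType_def, Multiset.count_map] at h
  have hf : 2 ≤ (ξ.cycleFactorsFinset.filter fun f => 2 = (Finset.card ∘ support) f).card := h
  obtain ⟨f, hf1, g, hg1, hfg⟩ := Finset.one_lt_card.1 (lt_of_lt_of_le one_lt_two hf)
  obtain ⟨hfm, hf2⟩ := Finset.mem_filter.1 hf1
  obtain ⟨hgm, hg2⟩ := Finset.mem_filter.1 hg1
  have hdisj := cycleFactorsFinset_pairwise_disjoint ξ hfm hgm hfg
  obtain ⟨a, b, hab, rfl⟩ := card_support_eq_two.1 hf2.symm
  obtain ⟨c, d, hcd, rfl⟩ := card_support_eq_two.1 hg2.symm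
  obtain ⟨-, hfix⟩ := mem_cycleFactorsFinset_iff.1 hfm
  obtain ⟨-, hgix⟩ := mem_cycleFactorsFinset_iff.1 hgm
  have hs := Finset.disjoint_left.1 (disjoint_iff_disjoint_support.1 hdisj)
  simp only [support_swap hab, support_swap hcd, Finset.mem_insert, Finset.mem_singleton,
    not_or] at hs
  refine ⟨a, b, c, d, hab, hcd, (hs (.inl rfl)).1, (hs (.inl rfl)).2, (hs (.inr rfl)).1,
    (hs (.inr rfl)).2, ?_, ?_, ?_, ?_⟩
  · rw [← hfix a (by simp [support_swap hab]), swap_apply_left]
  · rw [← hfix b (by simp [support_swap hab]), swap_apply_right]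
  · rw [← hgix c (by simp [support_swap hcd]), swap_apply_left]
  · rw [← hgix d (by simp [support_swap hcd]), swap_apply_right]

/-- Permutations of one cycle type commuting with a transposition are conjugate by an even
permutation. -/
lemma exists_even_conj {ξ η : Perm (Fin n)} (h : η.cycleType = ξ.cycleType)
    (h2 : 1 ≤ ξ.cycleType.count 2) :
    ∃ c : alternatingGroup (Fin n), (c : Perm (Fin n)) * ξ * (c : Perm (Fin n))⁻¹ = η := by
  obtain ⟨g, hg⟩ := isConj_iff.1 (isConj_iff_cycleType_eq.2 h.symm)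
  obtain ⟨a, b, hab, ha, hb⟩ := exists_swap_of_count h2
  rcases Int.units_eq_one_or (sign g) with hs | hs
  · exact ⟨⟨g, hs⟩, hg⟩
  · refine ⟨⟨g * swap a b, by
      rw [Equiv.Perm.mem_alternatingGroup, map_mul, sign_swap hab, hs]; decide⟩, ?_⟩
    have hcomm : swap a b * ξ = ξ * swap a b := by
      rw [eq_comm, ← mul_inv_eq_iff_eq_mul, ← swap_apply_apply, ha, hb, swap_comm]
    show g * swap a b * ξ * (g * swap a b)⁻¹ = η
    rw [mul_inv_rev, mul_assoc g (swap a b) ξ, hcomm, ← hg]
    simp [mul_assoc]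

lemma swaps_comm (a b c d : Fin n) (h1 : a ≠ c) (h2 : a ≠ d) (h3 : b ≠ c) (h4 : b ≠ d) :
    swap a b * swap c d = swap c d * swap a b := by
  have := swap_apply_apply (swap c d) a b
  rw [swap_apply_of_ne_of_ne h1 h2, swap_apply_of_ne_of_ne h3 h4] at this
  rw [eq_comm, ← mul_inv_eq_iff_eq_mul]
  exact this.symm

lemma klein_mul (a b c d : Fin n) (hab : a ≠ b) (hcd : c ≠ d) (hac : a ≠ c) (had : a ≠ d)
    (hbc : b ≠ c) (hbd : b ≠ d) :
    swap a b * swap c d * (swap a c * swap b d) = swap a d * swap b c ∧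
    swap a c * swap b d * (swap a b * swap c d) = swap a d * swap b c := by
  constructor <;>
  · ext x
    by_cases h1 : x = a
    · subst h1; simp [swap_apply_def, *, Ne.symm]
    by_cases h2 : x = b
    · subst h2; simp [swap_apply_def, *, Ne.symm]
    by_cases h3 : x = c
    · subst h3; simp [swap_apply_def, *, Ne.symm]
    by_cases h4 : x = d
    · subst h4; simp [swap_apply_def, *, Ne.symm]
    simp [swap_apply_of_ne_of_ne, *]

section Group

variable {G : Type*} [Group G] (f : G →* alternatingGroup (Fin n)) (z : G)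

/-- Hypotheses of a perfect double cover. -/
structure Cover : Prop where
  surj : Function.Surjective f
  ker : ∀ h, f h = 1 ↔ h = 1 ∨ h = z
  zne : z ≠ 1
  central : ∀ h : G, h * z = z * h
  perfect : commutator G = ⊤

variable {f z}

lemma Cover.map_z (H : Cover f z) : f z = 1 := (H.ker z).2 (.inr rfl)

lemma Cover.sq_z (H : Cover f z) : z * z = 1 := by
  rcases (H.ker (z * z)).1 (by rw [map_mul, H.map_z, one_mul]) with h | h
  · exact h
  · exact absurd (mul_eq_left.1 h) H.zne

lemma Cover.eq_or (H : Cover f z) {x y : G} (h : f x = f y) : x = y ∨ x = z * y := by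
  rcases (H.ker (x * y⁻¹)).1 (by rw [map_mul, map_inv, h, mul_inv_cancel]) with h' | h'
  · exact .inl (mul_inv_eq_one.1 h')
  · exact .inr (by rw [← h', inv_mul_cancel_right])

lemma Cover.sq_eq_of_conj (H : Cover f z) {x y c : G} (h : f x = f c * f y * (f c)⁻¹) :
    x * x = c * (y * y) * c⁻¹ := by
  rcases H.eq_or (y := c * y * c⁻¹) (by rw [h, map_mul, map_mul, map_inv]) with rfl | rfl
  · group
  · rw [show z * (c * y * c⁻¹) * (z * (c * y * c⁻¹)) = z * (c * y * c⁻¹ * z) * (c * y * c⁻¹) by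
      group, H.central, ← mul_assoc z z, H.sq_z]
    group

/-- A double transposition lifts to an element of order four. -/
lemma Cover.dt_sq (H : Cover f z) (hn : 5 ≤ n) {x : G}
    (hx : ((f x : alternatingGroup (Fin n)) : Perm (Fin n)).cycleType = R 2) : x * x = z := by
  have hxx : f (x * x) = 1 := by
    apply Subtype.ext
    have := pow_orderOf_eq_one ((f x : alternatingGroup (Fin n)) : Perm (Fin n))
    rw [← lcm_cycleType, hx] at this
    simpa [pow_two, map_mul] using this
  rcases (H.ker _).1 hxx with h1 | h1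
  swap
  · exact h1
  exfalso
  have all : ∀ w : G, ((f w : alternatingGroup (Fin n)) : Perm (Fin n)).cycleType = R 2 →
      w * w = 1 := by
    intro w hw
    obtain ⟨c, hc⟩ := exists_even_conj (ξ := (f x : Perm (Fin n))) (η := (f w : Perm (Fin n)))
      (by rw [hw, hx]) (by rw [hx]; simp)
    obtain ⟨c', rfl⟩ := H.surj c
    rw [H.sq_eq_of_conj (y := x) (c := c') (Subtype.ext (by simpa using hc.symm)), h1]
    group
  let c₁ : Fin n := ⟨0, by omega⟩
  let c₂ : Fin n := ⟨1, by omega⟩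
  have hc : c₁ ≠ c₂ := by simp [c₁, c₂]
  open CfsgLib.Presentations.Carmichael in
  have lifts : ∀ i : Idx c₁ c₂, ∃ y : G, f y = gen hc i ∧ y ^ 3 = 1 := by
    intro i
    obtain ⟨y, hy⟩ := H.surj (gen hc i)
    rcases (H.ker (y ^ 3)).1 (by rw [map_pow, hy, (gen_rels hc).cube]) with h | h
    · exact ⟨y, hy, h⟩
    · refine ⟨z * y, by rw [map_mul, H.map_z, one_mul, hy], ?_⟩
      have hcm : Commute z y := (H.central y).symm
      rw [hcm.mul_pow, h, pow_succ z 2, pow_two, H.sq_z, one_mul, H.sq_z]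
  choose y hy hy3 using lifts
  have hrel : CfsgLib.Presentations.Carmichael.CRels y := by
    refine ⟨hy3, fun i j hij => ?_⟩
    rw [pow_two]
    apply all
    rw [map_mul, hy, hy, Subgroup.coe_mul, CfsgLib.Presentations.Carmichael.gen_val,
      CfsgLib.Presentations.Carmichael.gen_val]
    have hij' : i.1 ≠ j.1 := fun h => hij (Subtype.ext h)
    rw [show CfsgLib.Presentations.Carmichael.cyc c₁ c₂ i.1 *
        CfsgLib.Presentations.Carmichael.cyc c₁ c₂ j.1 = swap c₁ i.1 * swap c₂ j.1 by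
      unfold CfsgLib.Presentations.Carmichael.cyc
      rw [mul_assoc]
      congr 1
      rw [← mul_assoc]
      have := swap_apply_apply (swap c₁ c₂) c₁ j.1
      rw [swap_apply_left, swap_apply_of_ne_of_ne j.2.1 j.2.2, swap_inv] at this
      exact this.symm]
    exact type22 _ _ _ _ ⟨i.2.1.symm, j.2.2.symm, hc, j.2.1.symm, i.2.2, hij'⟩
  obtain ⟨Ψ, hΨ⟩ := CfsgLib.Presentations.Carmichael.exists_hom hc y hrel
  have hid : f.comp Ψ = MonoidHom.id _ :=
    CfsgLib.Presentations.Carmichael.hom_ext hc fun i => by simp [hΨ, hy]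
  have hsec : ∀ a, f (Ψ a) = a := fun a => by
    simpa using congrArg (fun φ : alternatingGroup (Fin n) →* _ => φ a) hid
  have hle : commutator G ≤ Ψ.range := by
    rw [commutator_def, Subgroup.commutator_le]
    intro a _ b _
    refine ⟨⁅f a, f b⁆, ?_⟩
    rw [map_commutatorElement]
    have key : ∀ u : G, Ψ (f u) = u ∨ Ψ (f u) = z * u := fun u => H.eq_or (hsec (f u))
    rcases key a with ha | ha <;> rcases key b with hb | hb <;> rw [ha, hb] <;>
      simp only [commutatorElement_def, mul_inv_rev]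
    · rw [show a * (z * b) * a⁻¹ * (b⁻¹ * z⁻¹) = a * z * (b * a⁻¹ * b⁻¹) * z⁻¹ by group,
        H.central, mul_assoc z, ← H.central]
      group
    · rw [show z * a * b * (a⁻¹ * z⁻¹) * b⁻¹ = z * (a * b * a⁻¹) * z⁻¹ * b⁻¹ by group,
        ← H.central]
      group
    · rw [show z * a * (z * b) * (a⁻¹ * z⁻¹) * (b⁻¹ * z⁻¹)
          = z * (a * z) * b * a⁻¹ * z⁻¹ * b⁻¹ * z⁻¹ by group, H.central,
        show z * (z * a) = a by rw [← mul_assoc, H.sq_z, one_mul]]
      have hz' : z⁻¹ = z := inv_eq_of_mul_eq_one_right H.sq_z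
      rw [hz', mul_assoc _ z b⁻¹, ← H.central b⁻¹]
      simp [mul_assoc, H.sq_z]
  have hz : z ∈ Ψ.range := hle (H.perfect ▸ Subgroup.mem_top z)
  obtain ⟨a, ha⟩ := hz
  have : a = 1 := by rw [← hsec a, ha, H.map_z]
  exact H.zne (by rw [← ha, this, map_one])

/-- Some element centralising an even permutation with two transpositions anticommutes above. -/
lemma Cover.exists_anti (H : Cover f z) (hn : 5 ≤ n) {x : G}
    (hx : 2 ≤ ((f x : alternatingGroup (Fin n)) : Perm (Fin n)).cycleType.count 2) :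
    ∃ k : G, k * x * k⁻¹ = z * x := by
  obtain ⟨a, b, c, d, hab, hcd, hac, had, hbc, hbd, ea, eb, ec, ed⟩ := exists_two_swaps hx
  set ξ : Perm (Fin n) := ((f x : alternatingGroup (Fin n)) : Perm (Fin n)) with hξ
  set u : Perm (Fin n) := swap a b * swap c d with hu
  set v : Perm (Fin n) := swap a c * swap b d with hv
  obtain ⟨k₁, k₂⟩ := klein_mul a b c d hab hcd hac had hbc hbd
  rw [← hu, ← hv] at k₁ k₂
  have tu : u.cycleType = R 2 := type22 _ _ _ _ ⟨hab, hcd, hac, had, hbc, hbd⟩
  have tv : v.cycleType = R 2 := type22 _ _ _ _ ⟨hac, hbd, hab, had, hbc.symm, hcd⟩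
  have tw : (swap a d * swap b c).cycleType = R 2 :=
    type22 _ _ _ _ ⟨had, hbc, hab, hac, hbd.symm, hcd.symm⟩
  obtain ⟨U, hU⟩ := H.surj ⟨u, by
    rw [Equiv.Perm.mem_alternatingGroup, hu, map_mul, sign_swap hab, sign_swap hcd]; rfl⟩
  obtain ⟨V, hV⟩ := H.surj ⟨v, by
    rw [Equiv.Perm.mem_alternatingGroup, hv, map_mul, sign_swap hac, sign_swap hbd]; rfl⟩
  obtain ⟨W, hW⟩ := H.surj ⟨swap c d * swap b c, by
    rw [Equiv.Perm.mem_alternatingGroup, map_mul, sign_swap hcd, sign_swap hbc]; rfl⟩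
  have sU : U * U = z := H.dt_sq hn (by rw [hU]; exact tu)
  have sV : V * V = z := H.dt_sq hn (by rw [hV]; exact tv)
  have sUV : U * V * (U * V) = z := H.dt_sq hn (by
    rw [map_mul, hU, hV]
    show (u * v).cycleType = R 2
    rw [k₁]; exact tw)
  have hUV : V * U = z * (U * V) := by
    have e : U * (V * U) * V = U * (z * (U * V)) * V := by
      rw [show U * (z * (U * V)) * V = U * z * U * (V * V) by group, H.central U,
        show z * U * U * (V * V) = z * (U * U) * (V * V) by group, sU, sV, H.sq_z, one_mul]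
      rw [← mul_assoc, mul_assoc (U * V)]; exact sUV
    exact mul_left_cancel (mul_right_cancel e)
  have hz' : z⁻¹ = z := inv_eq_of_mul_eq_one_right H.sq_z
  -- the permutation fixing the four points
  obtain ⟨ρ, hρ⟩ : ∃ r : G, r = U * x := ⟨_, rfl⟩
  have hfρ : ((f ρ : alternatingGroup (Fin n)) : Perm (Fin n)) = u * ξ := by
    rw [hρ, map_mul, hU]; rfl
  have fix : ∀ p, p = a ∨ p = b ∨ p = c ∨ p = d → (u * ξ) p = p := by
    intro p hp
    rw [Perm.mul_apply, hu, Perm.mul_apply]
    rcases hp with rfl | rfl | rfl | rfl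
    · rw [ea, swap_apply_of_ne_of_ne hbc hbd, swap_apply_right]
    · rw [eb, swap_apply_of_ne_of_ne hac had, swap_apply_left]
    · rw [ec, swap_apply_right, swap_apply_of_ne_of_ne hac.symm hbc.symm]
    · rw [ed, swap_apply_left, swap_apply_of_ne_of_ne had.symm hbd.symm]
  have cswap : ∀ p q, (u * ξ) p = p → (u * ξ) q = q →
      u * ξ * swap p q = swap p q * (u * ξ) := by
    intro p q hp hq
    rw [← mul_inv_eq_iff_eq_mul, ← swap_apply_apply, hp, hq]
  have comm2 : ∀ p q r s, (u * ξ) p = p → (u * ξ) q = q → (u * ξ) r = r → (u * ξ) s = s →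
      u * ξ * (swap p q * swap r s) = swap p q * swap r s * (u * ξ) := by
    intro p q r s hp hq hr hs
    rw [← mul_assoc, cswap p q hp hq, mul_assoc, cswap r s hr hs, ← mul_assoc]
  have fa := fix a (.inl rfl)
  have fb := fix b (.inr (.inl rfl))
  have fc := fix c (.inr (.inr (.inl rfl)))
  have fd := fix d (.inr (.inr (.inr rfl)))
  have lift : ∀ P : G,
      u * ξ * ((f P : alternatingGroup (Fin n)) : Perm (Fin n))
        = ((f P : alternatingGroup (Fin n)) : Perm (Fin n)) * (u * ξ) →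
      P * ρ = ρ * P ∨ P * ρ = z * (ρ * P) := fun P hP => H.eq_or (Subtype.ext (by
        rw [map_mul, map_mul, Subgroup.coe_mul, Subgroup.coe_mul, hfρ, hP]))
  have cU := lift U (by rw [hU]; exact comm2 a b c d fa fb fc fd)
  have cV := lift V (by rw [hV]; exact comm2 a c b d fa fc fb fd)
  have cW := lift W (by rw [hW]; exact comm2 c d b c fc fd fb fc)
  -- the commutator with `ρ` is invariant under `W`, hence trivial
  have hρW : ∃ e, W * ρ * W⁻¹ = e * ρ ∧ ∀ g, g * e = e * g := by
    rcases cW with h | h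
    · exact ⟨1, by rw [h]; group, by simp⟩
    · exact ⟨z, by rw [h]; group, H.central⟩
  obtain ⟨e, hWe, he⟩ := hρW
  have move : ∀ P : G, P * ρ = ρ * P →
      W * P * W⁻¹ * ρ = ρ * (W * P * W⁻¹) := by
    intro P hP
    have h1 : W * P * W⁻¹ * (e * ρ) = e * ρ * (W * P * W⁻¹) := by
      rw [← hWe, show W * P * W⁻¹ * (W * ρ * W⁻¹) = W * (P * ρ) * W⁻¹ by group, hP]
      group
    rw [← mul_assoc, he, mul_assoc, mul_assoc e ρ] at h1
    exact mul_left_cancel h1
  have wu : swap c d * swap b c * u * (swap c d * swap b c)⁻¹ = swap a d * swap b c ∧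
      swap c d * swap b c * v * (swap c d * swap b c)⁻¹ = u := by
    have hw : ∀ p q, swap c d * swap b c * swap p q * (swap c d * swap b c)⁻¹
        = swap ((swap c d * swap b c) p) ((swap c d * swap b c) q) :=
      fun p q => (swap_apply_apply _ _ _).symm
    have split : ∀ p q r s, swap c d * swap b c * (swap p q * swap r s) * (swap c d * swap b c)⁻¹
        = (swap c d * swap b c * swap p q * (swap c d * swap b c)⁻¹) *
          (swap c d * swap b c * swap r s * (swap c d * swap b c)⁻¹) := by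
      intro p q r s; group
    have wa : (swap c d * swap b c) a = a := by
      simp [swap_apply_of_ne_of_ne, hab, hac, had]
    have wb : (swap c d * swap b c) b = d := by simp
    have wc : (swap c d * swap b c) c = b := by
      simp [swap_apply_of_ne_of_ne, hbc, hbd]
    have wd : (swap c d * swap b c) d = c := by
      simp [swap_apply_of_ne_of_ne, hbd.symm, hcd.symm]
    rw [hu, hv, split, split, hw, hw, hw, hw, wa, wb, wc, wd]
    exact ⟨rfl, by rw [swap_comm d c]⟩
  have central' : ∀ P Q : G, P = Q ∨ P = z * Q → Q * ρ = ρ * Q → P * ρ = ρ * P := by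
    rintro P Q (rfl | rfl) hQ
    · exact hQ
    · rw [mul_assoc, hQ, ← mul_assoc, ← H.central ρ, mul_assoc]
  have fconj : ∀ P : G, ((f (W * P * W⁻¹) : alternatingGroup (Fin n)) : Perm (Fin n))
      = swap c d * swap b c * ((f P : alternatingGroup (Fin n)) : Perm (Fin n)) *
        (swap c d * swap b c)⁻¹ := by
    intro P
    rw [map_mul, map_mul, map_inv, hW]; rfl
  have toU : U = W * V * W⁻¹ ∨ U = z * (W * V * W⁻¹) := H.eq_or (Subtype.ext (by
    rw [fconj, hU, hV]; exact wu.2.symm))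
  have toUV : U * V = W * U * W⁻¹ ∨ U * V = z * (W * U * W⁻¹) := H.eq_or (Subtype.ext (by
    rw [fconj, map_mul, hU, hV]
    show u * v = _
    rw [k₁]; exact wu.1.symm))
  have step1 : V * ρ = ρ * V → U * ρ = ρ * U := fun h => central' _ _ toU (move _ h)
  have step2 : U * ρ = ρ * U → V * ρ = ρ * V := fun h => by
    have h' := central' _ _ toUV (move _ h)
    rw [mul_assoc] at h'
    have : U * (V * ρ) = U * (ρ * V) := by rw [h', ← mul_assoc ρ, ← h, mul_assoc]
    exact mul_left_cancel this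
  have both : U * ρ = ρ * U ∧ V * ρ = ρ * V := by
    rcases cU with h1 | h1
    · exact ⟨h1, step2 h1⟩
    rcases cV with h2 | h2
    · exact ⟨step1 h2, h2⟩
    exfalso
    have h3 : U * V * ρ = ρ * (U * V) := by
      rw [mul_assoc, h2, ← mul_assoc, H.central, mul_assoc z, ← mul_assoc U, h1, ← mul_assoc,
        ← mul_assoc z z, H.sq_z, one_mul, mul_assoc]
    have hWU : W * U * W⁻¹ * ρ = ρ * (W * U * W⁻¹) := by
      rcases toUV with e' | e'
      · rwa [← e']
      · exact central' _ _ (.inr (by rw [e', ← mul_assoc, H.sq_z, one_mul])) h3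
    have back : W * (U * ρ) * W⁻¹ = W * (ρ * U) * W⁻¹ := by
      rw [show W * (U * ρ) * W⁻¹ = W * U * W⁻¹ * (W * ρ * W⁻¹) by group,
        show W * (ρ * U) * W⁻¹ = W * ρ * W⁻¹ * (W * U * W⁻¹) by group, hWe,
        ← mul_assoc, he, mul_assoc, hWU]
      simp only [mul_assoc]
    have : U * ρ = ρ * U := mul_left_cancel (mul_right_cancel back)
    rw [this, eq_comm, mul_eq_right] at h1
    exact H.zne h1
  refine ⟨V, ?_⟩
  have hxr : x = U⁻¹ * ρ := by rw [hρ, inv_mul_cancel_left]
  have hUi : U⁻¹ = z * U := by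
    apply inv_eq_of_mul_eq_one_right
    rw [← mul_assoc, H.central, mul_assoc, sU, H.sq_z]
  rw [hxr, hUi, show V * (z * U * ρ) * V⁻¹ = V * z * U * (ρ * V⁻¹) by group, H.central,
    mul_assoc z V U, hUV, ← mul_assoc z z, H.sq_z, one_mul, mul_assoc U V, ← mul_assoc V ρ V⁻¹,
    both.2, mul_inv_cancel_right, ← mul_assoc z (z * U), ← mul_assoc z z, H.sq_z, one_mul]

/-- Every element of a perfect double cover is a commutator. -/
theorem Cover.exists_commutator (H : Cover f z) (hn : 5 ≤ n) (g : G) :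
    ∃ a b : G, a * b * a⁻¹ * b⁻¹ = g := by
  obtain ⟨ξ, η, hprod, htype, hsign, h2⟩ :=
    exists_good_perm hn ((f g : alternatingGroup (Fin n)) : Perm (Fin n)) (f g).2
  obtain ⟨c, hc⟩ := exists_even_conj (ξ := ξ⁻¹) (η := η) (by rw [cycleType_inv]; exact htype)
    (by rw [cycleType_inv]; omega)
  obtain ⟨x, hx⟩ := H.surj ⟨ξ, hsign⟩
  obtain ⟨h, hh⟩ := H.surj c
  have hf : f g = f (x * h * x⁻¹ * h⁻¹) := by
    apply Subtype.ext
    rw [map_mul, map_mul, map_mul, map_inv, map_inv, hx, hh, hprod, ← hc]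
    simp [mul_assoc]
  rcases H.eq_or hf with e | e
  · exact ⟨x, h, e.symm⟩
  · obtain ⟨k, hk⟩ := H.exists_anti hn (x := x⁻¹) (by rw [map_inv, hx]; simpa using h2)
    refine ⟨x, h * k, ?_⟩
    rw [e, show x * (h * k) * x⁻¹ * (h * k)⁻¹ = x * h * (k * x⁻¹ * k⁻¹) * h⁻¹ by group, hk,
      show x * h * (z * x⁻¹) * h⁻¹ = x * h * z * x⁻¹ * h⁻¹ by group, H.central]
    group

end Group

end CfsgLib.AltCover
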