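import Cfsg.Agent.Lib.AltCover.Blocks

/-!
The case analysis on cycle types.
-/

set_option autoImplicit false

namespace CfsgLib.AltCover

open Equiv Equiv.Perm

/-- A decomposition suitable for lifting to double covers. -/
def Good (N : ℕ) (c : Multiset ℕ) : Prop :=
  ∃ S : Multiset ℕ, Dec N c S S ∧ Even (S.sum + Multiset.card S) ∧ 2 ≤ S.count 2

lemma even_R (a : ℕ) : Even ((R a).sum + Multiset.card (R a)) ↔ Even a := by
  simp [Multiset.sum_replicate, Nat.even_add]

lemma good_R {N : ℕ} {c : Multiset ℕ} {a : ℕ} (h : Dec N c (R a) (R a)) (ha : Even a)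
    (ha2 : 2 ≤ a) : Good N c :=
  ⟨R a, h, (even_R a).2 ha, by simpa using ha2⟩

lemma Good.cast {N M : ℕ} {c c' : Multiset ℕ} (h : Good N c) (hN : N = M) (hc : c = c') :
    Good M c' := by
  subst hN hc; exact h

lemma Good.fixed {N : ℕ} {c : Multiset ℕ} (h : Good N c) (f : ℕ) : Good (N + f) c := by
  obtain ⟨S, hd, he, h2⟩ := h
  exact ⟨S, (hd.add (dec_one f)).cast rfl (add_zero c) (add_zero S) (add_zero S), he, h2⟩

/-- Two even cycles count as one transposition each. -/
lemma exists_cases {c : Multiset ℕ} (hc : ∀ l ∈ c, 2 ≤ l) (h3 : 3 ∉ c) (h5 : ∀ l ∈ c, l < 5) :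
    c = R (c.count 2) + Multiset.replicate (c.count 4) 4 := by
  ext m
  rw [Multiset.count_add, Multiset.count_replicate, Multiset.count_replicate]
  by_cases h2 : m = 2
  · subst h2; simp
  by_cases h4 : m = 4
  · subst h4; simp
  rw [if_neg (Ne.symm h2), if_neg (Ne.symm h4), add_zero, Multiset.count_eq_zero]
  intro hm
  have := hc m hm
  have := h5 m hm
  exact h3 ((show m = 3 by omega) ▸ hm)

lemma exists_decomp_six {c : Multiset ℕ} (hc : ∀ l ∈ c, 2 ≤ l)
    (hs : c.sum = 1 + Multiset.card c) : c = {2} := by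
  rcases Multiset.empty_or_exists_mem c with rfl | ⟨l, hl⟩
  · simp at hs
  obtain ⟨c', rfl⟩ := Multiset.exists_cons_of_mem hl
  have hl2 := hc l hl
  have hc' : ∀ m ∈ c', 2 ≤ m := fun m hm => hc m (Multiset.mem_cons_of_mem hm)
  have h' : 2 * Multiset.card c' ≤ c'.sum := by
    have := Multiset.card_nsmul_le_sum (s := c') (a := 2) hc'
    simpa [mul_comm] using this
  simp only [Multiset.sum_cons, Multiset.card_cons] at hs
  obtain rfl : c' = 0 := Multiset.card_eq_zero.1 (by omega)
  simp at hs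
  subst hs
  rfl

lemma sum_ge {c : Multiset ℕ} (hc : ∀ l ∈ c, 2 ≤ l) : 2 * Multiset.card c ≤ c.sum := by
  simpa [mul_comm] using Multiset.card_nsmul_le_sum (s := c) (a := 2) hc

lemma sum_gap {c : Multiset ℕ} (hc : ∀ l ∈ c, 2 ≤ l) (hs : c.sum = 2 + Multiset.card c) :
    c = {3} ∨ c = R 2 := by
  rcases Multiset.empty_or_exists_mem c with rfl | ⟨l, hl⟩
  · simp at hs
  obtain ⟨c', rfl⟩ := Multiset.exists_cons_of_mem hl
  have hl2 := hc l hl
  have hc' : ∀ m ∈ c', 2 ≤ m := fun m hm => hc m (Multiset.mem_cons_of_mem hm)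
  have h' := sum_ge hc'
  simp only [Multiset.sum_cons, Multiset.card_cons] at hs
  rcases Nat.eq_zero_or_pos (Multiset.card c') with h0 | hpos
  · obtain rfl := Multiset.card_eq_zero.1 h0
    simp at hs
    subst hs
    exact Or.inl rfl
  · obtain rfl : l = 2 := by omega
    right
    rw [exists_decomp_six hc' (by omega)]
    rfl

/-- Every even cycle type on at least five points has a good decomposition. -/
theorem good_of_even {n : ℕ} (hn : 5 ≤ n) (c : Multiset ℕ) (hc : ∀ l ∈ c, 2 ≤ l)
    (hsum : c.sum ≤ n) (hev : Even (c.sum + Multiset.card c)) : Good n c := by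
  obtain ⟨s, t, hd, hst, hts, hts'⟩ := dec_std c hc
  have hgap := sum_ge hc
  obtain rfl : s = t := by
    obtain ⟨r, hr⟩ := hev
    omega
  suffices h : ∃ m, m ≤ n ∧ Good m c by
    obtain ⟨m, hm, hg⟩ := h
    exact (hg.fixed (n - m)).cast (by omega) rfl
  rcases Nat.eq_zero_or_pos s with rfl | hs0
  · obtain rfl : c = 0 := Multiset.card_eq_zero.1 (by omega)
    exact ⟨4, by omega, good_R dec_ident (by decide) le_rfl⟩
  rcases Nat.even_or_odd s with hse | hso
  · exact ⟨_, hsum, good_R hd hse (by obtain ⟨r, rfl⟩ := hse; omega)⟩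
  by_cases hf : c.sum + 2 ≤ n
  · refine ⟨c.sum + 2, hf, good_R ((hd.add dec_transposition).cast rfl (add_zero c)
      (Multiset.replicate_add s 1 2).symm (Multiset.replicate_add s 1 2).symm) hso.add_one
      (by omega)⟩
  by_cases h3 : 3 ∈ c
  · obtain ⟨c', rfl⟩ := Multiset.exists_cons_of_mem h3
    obtain ⟨s', t', hd', hst', hts'', hts'''⟩ :=
      dec_std c' fun m hm => hc m (Multiset.mem_cons_of_mem hm)
    simp only [Multiset.sum_cons, Multiset.card_cons] at hst hsum hf hgap
    have hg' := sum_ge (c := c') fun m hm => hc m (Multiset.mem_cons_of_mem hm)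
    obtain rfl : s' = t' := by omega
    obtain ⟨r, hr⟩ := hso
    refine ⟨3 + c'.sum, hsum, {3} + R s', (dec_three.add hd').cast rfl
      (by rw [Multiset.singleton_add]) rfl rfl, ?_, ?_⟩
    · simp [Multiset.sum_replicate]
      rw [Nat.even_iff]
      omega
    · simp
      omega
  by_cases h22 : 2 ≤ c.count 2
  · obtain ⟨c', rfl⟩ := Multiset.le_iff_exists_add.1 (Multiset.le_count_iff_replicate_le.1 h22)
    obtain ⟨s', t', hd', hst', hts'', hts'''⟩ :=
      dec_std c' fun m hm => hc m (Multiset.mem_add.2 (Or.inr hm))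
    simp only [Multiset.sum_add, Multiset.card_add, Multiset.sum_replicate,
      Multiset.card_replicate, smul_eq_mul] at hst hsum hf hgap
    obtain rfl : s' = t' := by omega
    obtain ⟨r, hr⟩ := hso
    refine ⟨4 + c'.sum, hsum, good_R ((dec_two_two.add hd').cast rfl rfl
      (Multiset.replicate_add 2 s' 2).symm (Multiset.replicate_add 2 s' 2).symm) ?_ (by omega)⟩
    exact ⟨r + 1, by omega⟩
  by_cases h44 : 2 ≤ c.count 4
  · obtain ⟨c', rfl⟩ := Multiset.le_iff_exists_add.1 (Multiset.le_count_iff_replicate_le.1 h44)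
    obtain ⟨s', t', hd', hst', hts'', hts'''⟩ :=
      dec_std c' fun m hm => hc m (Multiset.mem_add.2 (Or.inr hm))
    simp only [Multiset.sum_add, Multiset.card_add, Multiset.sum_replicate,
      Multiset.card_replicate, smul_eq_mul] at hst hsum hf hgap
    obtain rfl : s' = t' := by omega
    obtain ⟨r, hr⟩ := hso
    refine ⟨8 + c'.sum, hsum, good_R ((dec_four_four.add hd').cast rfl rfl
      (Multiset.replicate_add 4 s' 2).symm (Multiset.replicate_add 4 s' 2).symm) ?_ (by omega)⟩
    exact ⟨r + 1, by omega⟩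
  by_cases h5 : ∀ l ∈ c, l < 5
  · exfalso
    obtain ⟨a, b, rfl, ha, hb⟩ : ∃ a b, c = R a + Multiset.replicate b 4 ∧ a ≤ 1 ∧ b ≤ 1 :=
      ⟨_, _, exists_cases hc h3 h5, by omega, by omega⟩
    obtain ⟨r, hr⟩ := hso
    simp only [R, Multiset.sum_add, Multiset.card_add, Multiset.sum_replicate,
      Multiset.card_replicate, smul_eq_mul] at hst hsum hf
    interval_cases a <;> interval_cases b <;> omega
  push Not at h5
  obtain ⟨l, hl, hl5⟩ := h5
  obtain ⟨c', rfl⟩ := Multiset.exists_cons_of_mem hl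
  have hc' : ∀ m ∈ c', 2 ≤ m := fun m hm => hc m (Multiset.mem_cons_of_mem hm)
  have hg' := sum_ge hc'
  simp only [Multiset.sum_cons, Multiset.card_cons] at hst hsum hf hgap
  obtain ⟨r, hr⟩ := hso
  by_cases hk : s = 3
  · subst hk
    by_cases h7 : l = 7
    · subst h7
      obtain rfl : c' = 0 := Multiset.card_eq_zero.1 (by omega)
      exact ⟨7, by simpa using hsum, {3} + R 2, dec_seven, by decide, by decide⟩
    by_cases h6 : l = 6
    · subst h6
      obtain rfl := exists_decomp_six hc' (by omega)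
      exact ⟨8, by simpa using hsum, {3} + R 2, dec_six_two, by decide, by decide⟩
    exfalso
    obtain rfl : l = 5 := by omega
    rcases sum_gap hc' (by omega) with rfl | rfl
    · exact h3 (by simp)
    · exact h22 (by simp)
  obtain ⟨s', t', hd', hst', hts'', hts'''⟩ := dec_std c' hc'
  rcases Nat.even_or_odd' l with ⟨j, rfl | rfl⟩
  · obtain ⟨i, rfl⟩ : ∃ i, j = i + 3 := ⟨j - 3, by omega⟩
    obtain rfl : s' = t' + 1 := by omega
    refine ⟨2 * (i + 3) + c'.sum, hsum, {4} + R (i + 1 + t'),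
      ((dec_even_flip i).add hd'.swap).cast (by ring) ?_ ?_ ?_, ?_, ?_⟩
    · rw [Multiset.singleton_add, show 2 * i + 6 = 2 * (i + 3) by ring]
    · rw [R, R, R, add_assoc, ← Multiset.replicate_add]
    · rw [R, R, R, add_assoc, ← Multiset.replicate_add]
      congr 2; omega
    · simp [Multiset.sum_replicate]
      rw [Nat.even_iff]
      omega
    · simp
      omega
  · obtain ⟨i, rfl⟩ : ∃ i, j = i + 2 := ⟨j - 2, by omega⟩
    obtain rfl : s' = t' := by omega
    refine ⟨2 * (i + 2) + 1 + c'.sum, hsum, {4} + R (i + s'),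
      ((dec_odd_flip i).add hd').cast (by ring) ?_ ?_ ?_, ?_, ?_⟩
    · rw [Multiset.singleton_add, show 2 * i + 5 = 2 * (i + 2) + 1 by ring]
    · rw [R, R, R, add_assoc, ← Multiset.replicate_add]
    · rw [R, R, R, add_assoc, ← Multiset.replicate_add]
    · simp [Multiset.sum_replicate]
      rw [Nat.even_iff]
      omega
    · simp
      omega

/-- The permutation form of `good_of_even`. -/
theorem exists_good_perm {n : ℕ} (hn : 5 ≤ n) (σ : Perm (Fin n)) (hσ : sign σ = 1) :
    ∃ ξ η : Perm (Fin n), σ = ξ * η ∧ η.cycleType = ξ.cycleType ∧ sign ξ = 1 ∧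
      2 ≤ ξ.cycleType.count 2 := by
  have hev : Even (σ.cycleType.sum + Multiset.card σ.cycleType) := by
    by_contra h
    rw [Nat.not_even_iff_odd] at h
    rw [sign_of_cycleType, h.neg_one_pow] at hσ
    exact absurd hσ (by decide)
  have hle : σ.cycleType.sum ≤ n := by
    rw [sum_cycleType]
    exact le_trans (Finset.card_le_univ _) (by simp)
  obtain ⟨S, ⟨ξ, η, hprod, hξ, hη⟩, hS, h2⟩ :=
    good_of_even hn σ.cycleType (fun _ => two_le_of_mem_cycleType) hle hev
  obtain ⟨g, hg⟩ := isConj_iff.1 (isConj_iff_cycleType_eq.2 hprod)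
  refine ⟨g * ξ * g⁻¹, g * η * g⁻¹, ?_, ?_, ?_, ?_⟩
  · rw [← hg]; group
  · rw [cycleType_conj, cycleType_conj, hξ, hη]
  · rw [sign_of_cycleType, cycleType_conj, hξ, hS.neg_one_pow]
  · rw [cycleType_conj, hξ]; exact h2

end CfsgLib.AltCover
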